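import Cfsg.Agent.H644.Maximal
import Cfsg.Agent.OddOrderLocal.RankBasics
import Cfsg.Agent.S0968
import Cfsg.Agent.S0969
set_option linter.all false

/-!
# When is a Brauer pair maximal?

`(Q, e)` is a maximal Brauer pair (of its block) iff the block `e` of `C = C_G(Q)` has defect group
`Z(Q)` and the stabilizer of `e` in `N_G(Q)` has index prime to `p` over `Q C`.
-/

set_option autoImplicit false

open Cfsg

namespace Cfsg.Agent.H686.PairCrit

open Cfsg.Agent.H644
open Cfsg.Agent.Blocks.Local Cfsg.Agent.Blocks.ConvCentral Cfsg.Agent.Blocks.MinMax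
open Cfsg.Agent.Blocks.Basic (isPBlock_nonempty isPBlock_eq_of_mem isPBlock_eq_blockOf)

section Alg

variable {K : Type*} [Field K] {G : Type*} [Group G] [Finite G]

theorem emb_cj (C : Subgroup G) (c : C) (a : MonoidAlgebra K C) :
    emb C (cj c a) = cj (c : G) (emb C a) := by
  refine ext_coeff fun g => ?_
  rw [coeff_cj]
  by_cases hg : g ∈ C
  · have h1 : (c : G)⁻¹ * g * c ∈ C := C.mul_mem (C.mul_mem (C.inv_mem c.2) hg) c.2
    rw [coeff_emb_of_mem _ hg, coeff_emb_of_mem _ h1, coeff_cj]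
    rfl
  · have h1 : (c : G)⁻¹ * g * c ∉ C := by
      intro h
      apply hg
      have := C.mul_mem (C.mul_mem c.2 h) (C.inv_mem c.2)
      convert this using 1
      group
    rw [coeff_emb_of_notMem _ hg, coeff_emb_of_notMem _ h1]

/-- The relative trace from `Q` to `Q C` of an element of `K[C]`. -/
theorem tr_emb (Q C : Subgroup G) (hN : C ≤ Subgroup.normalizer (Q : Set G))
    (a : MonoidAlgebra K C) (haQ : IsInv Q (emb C a)) :
    tr Q (Q ⊔ C) (emb C a) = emb C (tr (Q.subgroupOf C) ⊤ a) := by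
  classical
  have := Fintype.ofFinite (G ⧸ Q)
  have := Fintype.ofFinite (C ⧸ Q.subgroupOf C)
  rw [tr_def, tr_def, map_sum, ← Finset.sum_filter]
  symm
  refine Finset.sum_bij (fun (r : C ⧸ Q.subgroupOf C) _ => (((qout r : C) : G) : G ⧸ Q)) ?_ ?_ ?_ ?_
  · intro r _
    rw [Finset.mem_filter]
    refine ⟨Finset.mem_univ _, (inCos_iff le_sup_left rfl).2 ?_⟩
    exact (le_sup_right : C ≤ Q ⊔ C) (qout r).2
  · intro r _ r' _ h
    have h1 := QuotientGroup.eq.1 h
    rw [← mk_qout r, ← mk_qout r']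
    refine QuotientGroup.eq.2 ?_
    rw [Subgroup.mem_subgroupOf]
    exact h1
  · intro q hq
    have h1 : qout q ∈ Q ⊔ C := (Finset.mem_filter.1 hq).2
    rw [sup_comm] at h1
    obtain ⟨c, hc, u, hu, h2⟩ := OddOrderLocal.RankBasics.exists_mul_of_mem_sup hN h1
    refine ⟨((⟨c, hc⟩ : C) : C ⧸ Q.subgroupOf C), Finset.mem_univ _, ?_⟩
    have h3 := inv_qout_mul_mem (q := ((⟨c, hc⟩ : C) : C ⧸ Q.subgroupOf C)) rfl
    rw [Subgroup.mem_subgroupOf] at h3
    conv_rhs => rw [← mk_qout q]
    refine QuotientGroup.eq.2 ?_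
    rw [← h2]
    have h4 := Q.mul_mem h3 hu
    rw [Subgroup.coe_mul, Subgroup.coe_inv] at h4
    rwa [mul_assoc] at h4
  · intro r _
    rw [if_pos (by exact Subgroup.mem_top _), emb_cj]
    exact (cj_qout haQ rfl).symm

end Alg


section Main

variable {p : ℕ} {M : Ideal AlgInt} [M.IsPrime] {G : Type*} [Group G] [Finite G]

/-- The central character of `e` is invariant under the stabilizer of `e`. -/
theorem lam_br_cj (hM : IsPModular p M) {Q : Subgroup G}
    {e : Set (IrrCharacter (Subgroup.centralizer (Q : Set G)))} (he : IsPBlock M e)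
    {ξ : IrrCharacter (Subgroup.centralizer (Q : Set G))} (hξ : ξ ∈ e) {t : G}
    (ht : t ∈ pairStab M Q e) {x : MonoidAlgebra (ResField M) (Subgroup.centralizer (Q : Set G))}
    (hx : IsCls x) :
    lam M (ξ : Subgroup.centralizer (Q : Set G) → ℂ) (br Q (cj t (emb _ x))) =
      lam M (ξ : Subgroup.centralizer (Q : Set G) → ℂ) x := by
  have hn : t ∈ Subgroup.normalizer ((Subgroup.centralizer (Q : Set G) : Subgroup G) : Set G) :=
    mem_normalizer_centralizer (mem_pairStab_iff.1 ht).1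
  set φ := cjE t _ _ (mem_iff_conj_mem_of_mem_normalizer hn) with hφ
  have h1 : irrMap φ '' e = e := by
    apply idem_injective hM (isUnion_of_isPBlock (isPBlock_irrMap he)) (isUnion_of_isPBlock he)
    apply emb_injective
    rw [hφ, emb_idem_irrMap, (mem_pairStab_iff.1 ht).2]
  have h2 : irrMap φ ξ ∈ e := by
    rw [← h1]
    exact ⟨ξ, hξ, rfl⟩
  have h3 := lam_irrMap (M := M) φ ξ (x' := br Q (cj t (emb _ x))) hx (by
    intro g
    rw [coeff_br, coeff_cj, hφ, coe_cjE]
    have : t⁻¹ * (t * (g : G) * t⁻¹) * t = (g : G) := by group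
    rw [this, coeff_emb_coe])
  rw [← h3, lam_eq_of_mem he hξ h2]

/-- The central character of a trace from `Q C` to the stabilizer. -/
theorem lam_br_tr (hM : IsPModular p M) {Q : Subgroup G}
    {e : Set (IrrCharacter (Subgroup.centralizer (Q : Set G)))} (he : IsPBlock M e)
    {ξ : IrrCharacter (Subgroup.centralizer (Q : Set G))} (hξ : ξ ∈ e)
    {x : MonoidAlgebra (ResField M) (Subgroup.centralizer (Q : Set G))} (hx : IsCls x) :
    lam M (ξ : Subgroup.centralizer (Q : Set G) → ℂ)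
      (br Q (tr (Q ⊔ Subgroup.centralizer (Q : Set G)) (pairStab M Q e) (emb _ x))) =
      ((Q ⊔ Subgroup.centralizer (Q : Set G)).relIndex (pairStab M Q e) : ResField M) *
        lam M (ξ : Subgroup.centralizer (Q : Set G) → ℂ) x := by
  classical
  set H := Q ⊔ Subgroup.centralizer (Q : Set G) with hH
  have := Fintype.ofFinite (G ⧸ H)
  have hle : H ≤ pairStab M Q e := sup_le (le_pairStab Q e) (centralizer_le_pairStab Q e)
  rw [tr_def, map_sum, map_sum, ← card_inCos hle, Finset.card_filter, Nat.cast_sum,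
    Finset.sum_mul]
  refine Finset.sum_congr rfl fun q _ => ?_
  by_cases h : inCos H (pairStab M Q e) q
  · rw [if_pos h, if_pos h, lam_br_cj hM he hξ h hx, Nat.cast_one, one_mul]
  · rw [if_neg h, if_neg h, map_zero, map_zero, Nat.cast_zero, zero_mul]

omit [Finite G] in
theorem subgroupOf_le_center (Q : Subgroup G) :
    Q.subgroupOf (Subgroup.centralizer (Q : Set G)) ≤
      Subgroup.center (Subgroup.centralizer (Q : Set G)) := by
  intro u hu
  rw [Subgroup.mem_center_iff]
  intro g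
  apply Subtype.ext
  exact ((Subgroup.mem_centralizer_iff.1 g.2) (u : G) (Subgroup.mem_subgroupOf.1 hu)).symm

/-- All elements of `K[C]` are invariant under a central subgroup. -/
theorem isInv_of_le_center {K : Type*} [Field K] {C : Type*} [Group C] [Finite C]
    {D : Subgroup C} (hD : D ≤ Subgroup.center C) (x : MonoidAlgebra K C) : IsInv D x := by
  intro u hu g
  have h1 := Subgroup.mem_center_iff.1 (hD hu) g
  congr 1
  rw [← h1, mul_inv_cancel_right]

theorem centralizer_eq_top_of_le_center {C : Type*} [Group C] {D : Subgroup C}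
    (hD : D ≤ Subgroup.center C) : Subgroup.centralizer (D : Set C) = ⊤ := by
  rw [eq_top_iff]
  intro g _
  rw [Subgroup.mem_centralizer_iff]
  intro u hu
  exact (Subgroup.mem_center_iff.1 (hD hu) g).symm

/-- A block of `C` on which a trace from the central `p`-subgroup `D` has nonzero central character
has defect group `D`. -/
theorem isDefectGroup_of_central (hM : IsPModular p M) {C : Type*} [Group C] [Finite C]
    {D : Subgroup C} (hDp : IsPGroup p D) (hD : D ≤ Subgroup.center C)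
    {e : Set (IrrCharacter C)} (he : IsPBlock M e) {ξ : IrrCharacter C} (hξ : ξ ∈ e)
    {a : MonoidAlgebra (ResField M) C} (h : lam M (ξ : C → ℂ) (tr D ⊤ a) ≠ 0) :
    IsDefectGroup p M e D := by
  have : Fact p.Prime := ⟨hM.1⟩
  have hz : IsCls (tr D ⊤ a) :=
    isCls_iff_isInv_top.2 (isInv_tr le_top (isInv_of_le_center hD a))
  obtain ⟨w, hw, hw2⟩ := exists_inv_of_lam hM hz he hξ h
  have hwe : IsCls (w * idem M e) := isCls_mul hw (isCls_idem e)
  refine isDefectGroup_of_tr hM he hDp (a := a * (w * idem M e)) (isInv_of_le_center hD _) ?_ ?_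
  · rw [← tr_mul (isInv_of_isCls hwe ⊤), ← mul_assoc, hw2]
  · intro h0
    apply idem_ne_zero hM (isUnion_of_isPBlock he) ⟨ξ, hξ⟩
    refine ext_coeff fun g => ?_
    have hg : g ∈ Subgroup.centralizer (D : Set C) := by
      rw [centralizer_eq_top_of_le_center hD]; exact Subgroup.mem_top g
    have h1 : (br D (idem M e)).coeff ⟨g, hg⟩ = 0 := by
      rw [h0, MonoidAlgebra.coeff_zero, Finsupp.zero_apply]
    rw [coeff_br] at h1
    rw [h1, MonoidAlgebra.coeff_zero, Finsupp.zero_apply]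

/-- A subgroup containing all elements of `p`-power order has index prime to `p`. -/
theorem not_dvd_index {X : Type*} [Group X] [Finite X] (hp : p.Prime) (H : Subgroup X)
    (h : ∀ x : X, (∃ k : ℕ, orderOf x = p ^ k) → x ∈ H) : ¬ p ∣ H.index := by
  have : Fact p.Prime := ⟨hp⟩
  obtain ⟨P⟩ := (inferInstance : Nonempty (Sylow p X))
  have h1 : (P : Subgroup X) ≤ H := by
    intro x hx
    apply h
    obtain ⟨k, hk⟩ := (IsPGroup.iff_orderOf.1 P.2) ⟨x, hx⟩
    exact ⟨k, by rw [← hk]; exact (Subgroup.orderOf_coe (⟨x, hx⟩ : (P : Subgroup X)))⟩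
  intro h2
  exact P.not_dvd_index (h2.trans (Subgroup.index_dvd_of_le h1))

theorem mem_of_not_dvd_index {X : Type*} [Group X] [Finite X] (hp : p.Prime) (H : Subgroup X)
    [H.Normal] (h : ¬ p ∣ H.index) {x : X} {k : ℕ} (hx : orderOf x = p ^ k) : x ∈ H := by
  have h1 : x ^ H.index ∈ H := Subgroup.pow_index_mem H x
  have h2 : H.index.Coprime (orderOf x) := by
    rw [hx]
    exact (Nat.Coprime.pow_left k ((Nat.Prime.coprime_iff_not_dvd hp).2 h)).symm
  obtain ⟨m, hm⟩ := exists_pow_eq_self_of_coprime h2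
  rw [← hm]
  exact Subgroup.pow_mem _ h1 m

omit [Finite G] in
theorem card_subgroupOf_eq (Q C : Subgroup G) :
    Nat.card (Q.subgroupOf C) = Nat.card (Q ⊓ C : Subgroup G) := by
  rw [← Subgroup.subgroupOf_map_subtype, Subgroup.card_map_of_injective C.subtype_injective]

local notation "Cn(" Q ")" => Subgroup.centralizer ((Q : Subgroup G) : Set G)

theorem emb_single (C : Subgroup G) (y : C) (c : ResField M) :
    emb C (MonoidAlgebra.single y c) = MonoidAlgebra.single (y : G) c := by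
  classical
  refine ext_coeff fun g => ?_
  by_cases hg : g ∈ C
  · rw [coeff_emb_of_mem _ hg, MonoidAlgebra.coeff_single, MonoidAlgebra.coeff_single,
      Finsupp.single_apply, Finsupp.single_apply]
    congr 1
    exact propext ⟨fun h => congrArg Subtype.val h, fun h => Subtype.ext h⟩
  · rw [coeff_emb_of_notMem _ hg, MonoidAlgebra.coeff_single, Finsupp.single_apply, if_neg]
    intro h
    exact hg (h ▸ y.2)

/-- Arithmetic of `C_G(Q)` and `Z(Q)`. -/
theorem card_index (Q : Subgroup G) :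
    (Nat.card (Q.subgroupOf Cn(Q))).factorization p + (Q.subgroupOf Cn(Q)).index.factorization p
      = (Nat.card Cn(Q)).factorization p := by
  rw [← Subgroup.card_mul_index (Q.subgroupOf Cn(Q)), Nat.factorization_mul Nat.card_pos.ne'
    Subgroup.index_ne_zero_of_finite]
  rfl

theorem crit_mp (hM : IsPModular p M) {Q : Subgroup G}
    {e : Set (IrrCharacter Cn(Q))} {B : Set (IrrCharacter G)}
    (hmax : IsMaximalBrauerPair p M B Q e) :
    ∃ θ ∈ e, (∀ z : Cn(Q), (z : G) ∈ Q → (θ : Cn(Q) → ℂ) z = (θ : Cn(Q) → ℂ) 1) ∧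
        (charDegree (θ : Cn(Q) → ℂ)).factorization p +
          (Nat.card ↥(Q ⊓ Cn(Q))).factorization p = (Nat.card Cn(Q)).factorization p ∧
        (∀ g : G, g ∈ Subgroup.normalizer (Q : Set G) →
          StabilizesBlock Cn(Q) e g →
          (∃ k : ℕ, orderOf g = p ^ k) → g ∈ Q ⊔ Cn(Q)) := by
  have hp : p.Prime := hM.1
  have : Fact p.Prime := ⟨hp⟩
  have := charP_resField hM
  have he := hmax.1.1
  have hDZ : Q.subgroupOf Cn(Q) ≤ Subgroup.center Cn(Q) := subgroupOf_le_center Q
  have hDp : IsPGroup p (Q.subgroupOf Cn(Q)) :=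
    he.1.comap_of_injective (Cn(Q)).subtype (Cn(Q)).subtype_injective
  have hQT : Q ≤ pairStab M Q e := le_pairStab Q e
  have hCT : Cn(Q) ≤ pairStab M Q e := centralizer_le_pairStab Q e
  have hHT : Q ⊔ Cn(Q) ≤ pairStab M Q e := sup_le hQT hCT
  have hTN : pairStab M Q e ≤ Subgroup.normalizer (Q : Set G) := pairStab_le_normalizer Q e
  have hCN : Cn(Q) ≤ Subgroup.normalizer (Q : Set G) := hCT.trans hTN
  obtain ⟨ξ, hξ⟩ := isPBlock_nonempty he.2
  obtain ⟨R, g, y, h1, hRT, hy, h2⟩ := exists_normal_extension hM he hξ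
  have hR : R = Q := hmax.2 R g ((isBrauerPairOf_iff_of_isNormalSubpair hM h1).2 hmax.1)
    (subpairLE_of_isNormalSubpair h1)
  subst hR
  have hyi : IsInv R (MonoidAlgebra.single y (1 : ResField M)) := isInv_single fun u hu => by
    rw [Subgroup.mem_centralizer_singleton_iff]
    exact (Subgroup.mem_centralizer_iff.1 hy) u hu
  have hemb : (MonoidAlgebra.single y (1 : ResField M))
      = emb Cn(R) (MonoidAlgebra.single (⟨y, hy⟩ : Cn(R)) (1 : ResField M)) :=
    (emb_single Cn(R) ⟨y, hy⟩ 1).symm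
  rw [← tr_trans le_sup_left hHT hyi, hemb, tr_emb R Cn(R) hCN _ (by rw [← hemb]; exact hyi)] at h2
  have hz : IsCls (tr (R.subgroupOf Cn(R)) ⊤
      (MonoidAlgebra.single (⟨y, hy⟩ : Cn(R)) (1 : ResField M))) :=
    isCls_iff_isInv_top.2 (isInv_tr le_top (isInv_of_le_center hDZ _))
  rw [lam_br_tr hM he.2 hξ hz] at h2
  have hrel : ¬ p ∣ (R ⊔ Cn(R)).relIndex (pairStab M R e) := by
    intro h3
    apply h2
    rw [(CharP.cast_eq_zero_iff (ResField M) p _).2 h3, zero_mul]
  have hlam := right_ne_zero_of_mul h2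
  have hdef := isDefectGroup_of_central hM hDp hDZ he.2 hξ hlam
  have hGD : R.subgroupOf Cn(R) ⊔ Subgroup.centralizer (R.subgroupOf Cn(R) : Set Cn(R)) = ⊤ := by
    rw [centralizer_eq_top_of_le_center hDZ, sup_top_eq]
  obtain ⟨⟨θ, ⟨hθe, hθ⟩, -⟩, hdeg, -⟩ := S0968.result p M hM _ hDp hGD e he.2 hdef
  refine ⟨θ, hθe, fun z hz => hθ z hz, ?_, ?_⟩
  · rw [← card_subgroupOf_eq, hdeg θ hθe hθ, add_comm]
    exact card_index R
  · intro g hg hst hk
    have hgT : g ∈ pairStab M R e := (mem_pairStab_iff_stabilizesBlock hM he.2).2 ⟨hg, hst⟩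
    have hn1 : (R.subgroupOf (pairStab M R e)).Normal :=
      Subgroup.normal_subgroupOf_of_le_normalizer hTN
    have hn2 : ((Cn(R)).subgroupOf (pairStab M R e)).Normal := by
      refine Subgroup.normal_subgroupOf_of_le_normalizer fun t ht => ?_
      exact mem_normalizer_centralizer (hTN ht)
    have hn3 : ((R ⊔ Cn(R)).subgroupOf (pairStab M R e)).Normal := by
      rw [Subgroup.subgroupOf_sup hQT hCT]
      infer_instance
    obtain ⟨k, hk⟩ := hk
    exact mem_of_not_dvd_index hp ((R ⊔ Cn(R)).subgroupOf (pairStab M R e)) hrel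
      (x := (⟨g, hgT⟩ : pairStab M R e)) (k := k) (by rw [← hk]; exact Subgroup.orderOf_mk g hgT)

theorem crit_mpr (hM : IsPModular p M) {Q : Subgroup G}
    {e : Set (IrrCharacter Cn(Q))} (he : IsBrauerPair p M Q e)
    {θ : IrrCharacter Cn(Q)} (hθe : θ ∈ e)
    (hdeg : (charDegree (θ : Cn(Q) → ℂ)).factorization p +
          (Nat.card ↥(Q ⊓ Cn(Q))).factorization p = (Nat.card Cn(Q)).factorization p)
    (hst : ∀ g : G, g ∈ Subgroup.normalizer (Q : Set G) →
          StabilizesBlock Cn(Q) e g →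
          (∃ k : ℕ, orderOf g = p ^ k) → g ∈ Q ⊔ Cn(Q)) :
    ∃ B : Set (IrrCharacter G), IsMaximalBrauerPair p M B Q e := by
  have hp : p.Prime := hM.1
  have : Fact p.Prime := ⟨hp⟩
  have := charP_resField hM
  have hDZ : Q.subgroupOf Cn(Q) ≤ Subgroup.center Cn(Q) := subgroupOf_le_center Q
  have hDp : IsPGroup p (Q.subgroupOf Cn(Q)) :=
    he.1.comap_of_injective (Cn(Q)).subtype (Cn(Q)).subtype_injective
  have hQT : Q ≤ pairStab M Q e := le_pairStab Q e
  have hCT : Cn(Q) ≤ pairStab M Q e := centralizer_le_pairStab Q e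
  have hHT : Q ⊔ Cn(Q) ≤ pairStab M Q e := sup_le hQT hCT
  have hTN : pairStab M Q e ≤ Subgroup.normalizer (Q : Set G) := pairStab_le_normalizer Q e
  have hCN : Cn(Q) ≤ Subgroup.normalizer (Q : Set G) := hCT.trans hTN
  obtain ⟨B, hB, -⟩ := existsUnique_isBrauerPairOf hM he
  refine ⟨B, isMaximalBrauerPair_of_isDefectGroup hM hB ?_⟩
  have hdeg' : (charDegree (θ : Cn(Q) → ℂ)).factorization p =
      (Q.subgroupOf Cn(Q)).index.factorization p := by
    rw [← card_subgroupOf_eq, add_comm, ← card_index (p := p) Q] at hdeg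
    exact Nat.add_left_cancel hdeg
  have hdef := (S0969.result p M hM _ hDp hDZ θ hdeg').1
  rw [← isPBlock_eq_blockOf he.2 hθe] at hdef
  obtain ⟨a, ha, ha2⟩ := exists_tr_of_isDefectGroup hM he.2 hdef
  have haQ : IsInv Q (emb Cn(Q) a) := isInv_of_emb_centralizer Q a
  have hrel : ¬ p ∣ (Q ⊔ Cn(Q)).relIndex (pairStab M Q e) := by
    refine not_dvd_index hp ((Q ⊔ Cn(Q)).subgroupOf (pairStab M Q e)) fun x hx => ?_
    obtain ⟨k, hk⟩ := hx
    have h1 := (mem_pairStab_iff_stabilizesBlock hM he.2).1 x.2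
    exact hst x h1.1 h1.2 ⟨k, by rw [← hk]; exact Subgroup.orderOf_coe x⟩
  have htr : tr Q (pairStab M Q e) (emb Cn(Q) a)
      = tr (Q ⊔ Cn(Q)) (pairStab M Q e) (emb Cn(Q) (idem M e)) := by
    rw [← tr_trans le_sup_left hHT haQ, tr_emb Q Cn(Q) hCN a haQ, ← ha2]
  refine isDefectGroup_of_lam_tr hM hB hθe haQ (isInv_mono hCT (isInv_tr hQT haQ)) ?_
  rw [htr, lam_br_tr hM he.2 hθe (isCls_idem e),
    lam_idem_of_mem hM (isUnion_of_isPBlock he.2) hθe, mul_one]
  intro h0
  exact hrel ((CharP.cast_eq_zero_iff (ResField M) p _).1 h0)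

end Main

end Cfsg.Agent.H686.PairCrit
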