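import Mathlib
import Cfsg.Prelude.Def_KGroupFacts
import Cfsg.Agent.H254.CopCard_m3
import Cfsg.Agent.S0243
import Cfsg.Agent.S0280
import Cfsg.Agent.S0813
import Cfsg.Agent.S0814
import Cfsg.Agent.S0815
import Cfsg.Agent.H183.OutPSL
import Cfsg.Agent.ClassicalGeometry.SympGamma
import Cfsg.Agent.Schreier.ClassAll
import Cfsg.Agent.Schreier.PSU
import Cfsg.Agent.LieClassical.SpFourTwo
import Cfsg.Agent.LieClassical.SympCenter
import Cfsg.Agent.LieClassical.SympPerfect
import Cfsg.Agent.S0270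
import Cfsg.Agent.FastGrp
import Cfsg.Agent.Prune
set_option linter.all false

section
prune_inst 0x7f00000000000000000000000000000000000000000000000000000000000000000000000000000000000000000000000000000000000000000000000000000000000000000000000000000000000000003fffffffffffffffffffffffffffbeffbdffffffff

-- part: H254/CopLin
section
set_option linter.all false
open scoped Cfsg.Agent.FastGrp

/-!
# Coprime automorphisms of the linear, symplectic and unitary groups

`copIn_psl`, `copIn_psp`, `copIn_psu` : a group of automorphisms of order prime to the order of the simple group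
`PSL_n(F)`, `PSp_2m(F)`, `PSU_n(q)` is conjugate to a group of field automorphisms (acting entrywise on the matrices).
-/

set_option autoImplicit false

namespace Cfsg.Agent.H254

open Cfsg Cfsg.Agent.Schreier.Basic

universe u

/-! ### Linear groups -/

namespace PSL

open Cfsg.Agent.ClassicalGeometry.AutPSL.Auto Cfsg.Agent.ClassicalGeometry.AutPSL.Main

variable {F : Type*} [Field F] {n : ℕ}

theorem orderOf_dvd (hn : 2 ≤ n) (ρ : F ≃+* F) :
    orderOf ρ ∣ orderOf (lift (fld ρ) : MulAut (Matrix.ProjectiveSpecialLinearGroup (Fin n) F)) := by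
  have : Nontrivial (Fin n) := Fin.nontrivial_iff_two_le.2 hn
  apply orderOf_dvd_of_pow_eq_one
  set k := orderOf (lift (fld ρ) : MulAut (Matrix.ProjectiveSpecialLinearGroup (Fin n) F)) with hk
  have h1 : (lift (fld (ρ ^ k)) : MulAut (Matrix.ProjectiveSpecialLinearGroup (Fin n) F)) = 1 := by
    rw [map_pow, map_pow, hk, pow_orderOf_eq_one]
  have h2 : lift (cj (1 : GL (Fin n) F) * fld (ρ ^ k)) = lift (fld (1 : F ≃+* F)) := by
    rw [map_one, one_mul, h1, map_one, map_one]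
  exact (injective_aux h2).2

/-- `q - 1` divides the order of `PSL_n(q)`, `n ≥ 3`. -/
theorem dvd_card [Fintype F] (hn : 3 ≤ n) {r : ℕ} (hr : r ∣ Fintype.card F - 1) :
    r ∣ Nat.card (Matrix.ProjectiveSpecialLinearGroup (Fin n) F) := by
  refine hr.trans ?_
  have hq1 : 1 < Fintype.card F := Fintype.one_lt_card
  set q := Fintype.card F with hq
  have h1 := S0243.result (F := F) rfl n (by omega)
  rw [← hq] at h1
  have h2 : (q - 1) ^ n ∣ ∏ i : Fin n, (q ^ n - q ^ (i : ℕ)) := by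
    have h3 : ∏ _i : Fin n, (q - 1) ∣ ∏ i : Fin n, (q ^ n - q ^ (i : ℕ)) := by
      apply Finset.prod_dvd_prod_of_dvd
      intro i _
      have h4 : q ^ n - q ^ (i : ℕ) = q ^ (i : ℕ) * (q ^ (n - i) - 1) := by
        rw [Nat.mul_sub, mul_one, ← pow_add, Nat.add_sub_cancel' i.2.le]
      rw [h4]
      exact Dvd.dvd.mul_left (Nat.sub_one_dvd_pow_sub_one q _) _
    simpa using h3
  rw [← h1] at h2
  have h5 : (q - 1) ^ 3 ∣ Nat.gcd n (q - 1) * ((q - 1) * Nat.card (Matrix.ProjectiveSpecialLinearGroup (Fin n) F)) :=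
    (pow_dvd_pow _ hn).trans h2
  have h6 : Nat.gcd n (q - 1) * ((q - 1) * Nat.card (Matrix.ProjectiveSpecialLinearGroup (Fin n) F))
      ∣ (q - 1) * ((q - 1) * Nat.card (Matrix.ProjectiveSpecialLinearGroup (Fin n) F)) :=
    Nat.mul_dvd_mul_right (Nat.gcd_dvd_right _ _) _
  have h7 := h5.trans h6
  have h8 : (q - 1) ^ 3 = (q - 1) * ((q - 1) * (q - 1)) := by ring
  rw [h8] at h7
  have h9 : 0 < q - 1 := by omega
  exact Nat.dvd_of_mul_dvd_mul_left h9 (Nat.dvd_of_mul_dvd_mul_left h9 h7)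

theorem copIn [Fintype F] {n : ℕ} (hn : 2 ≤ n) (h4 : n = 2 → 4 ≤ Fintype.card F)
    [Finite (Matrix.ProjectiveSpecialLinearGroup (Fin n) F)]
    [IsSimpleGroup (Matrix.ProjectiveSpecialLinearGroup (Fin n) F)]
    (hna : ¬ IsMulCommutative (Matrix.ProjectiveSpecialLinearGroup (Fin n) F))
    (h2 : 2 ∣ Nat.card (Matrix.ProjectiveSpecialLinearGroup (Fin n) F)) (ρ : F ≃+* F)
    (hρ : orderOf ρ = Nat.card (F ≃+* F)) :
    CopIn (Matrix.ProjectiveSpecialLinearGroup (Fin n) F) (lift (fld ρ)) := by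
  obtain ⟨p, hchar⟩ := CharP.exists F
  obtain ⟨f, hp, hf⟩ := FiniteField.card F p
  have hpf : Fact p.Prime := ⟨hp⟩
  have hq1 : 1 < Fintype.card F := Fintype.one_lt_card
  have hq0 : Fintype.card F - 1 ≠ 0 := by omega
  have hcard := S0813.result p f f.pos hf n hn (fun h => by rw [← hf]; exact h4 h)
  have hpgl : Nat.card (Matrix.ProjGenLinGroup (Fin n) F)
      = Nat.gcd n (Fintype.card F - 1) * Nat.card (Matrix.ProjectiveSpecialLinearGroup (Fin n) F) :=
    H183.OutPSL.card_pgl_eq hn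
  have hf' : Nat.card (F ≃+* F) = f := Lib.FieldAutCard.card_ringAut f.pos hf
  refine CopIn.of_card hna (Schreier.ClassPSL.sch hn) _ (2 * Nat.gcd n (Fintype.card F - 1)) ?_ ?_ ?_
  · exact mul_ne_zero two_ne_zero (Nat.gcd_ne_zero_right hq0)
  · intro r hr hd
    rcases (Nat.Prime.dvd_mul hr).1 hd with h | h
    · rw [(Nat.prime_dvd_prime_iff_eq hr Nat.prime_two).1 h]; exact h2
    · rcases Nat.lt_or_ge n 3 with h3 | h3
      · have hn2 : n = 2 := by omega
        subst hn2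
        have : r ∣ 2 := h.trans (Nat.gcd_dvd_left _ _)
        rw [(Nat.prime_dvd_prime_iff_eq hr Nat.prime_two).1 this]; exact h2
      · exact dvd_card h3 (h.trans (Nat.gcd_dvd_right _ _))
  · rw [hcard, hpgl]
    have h5 : (f : ℕ) ∣ orderOf (lift (fld ρ) : MulAut (Matrix.ProjectiveSpecialLinearGroup (Fin n) F)) := by
      rw [← hf', ← hρ]
      exact orderOf_dvd hn ρ
    obtain ⟨e, he⟩ := h5
    rw [he]
    by_cases hn2 : n = 2
    · rw [if_pos hn2]
      exact ⟨2 * e, by ring⟩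
    · rw [if_neg hn2]
      exact ⟨e, by ring⟩

end PSL

/-! ### Symplectic groups -/

namespace PSP

open Cfsg.Agent.ClassicalGeometry.SympAutSemi Cfsg.Agent.ClassicalGeometry.SympGamma

variable {F : Type*} [Field F] {m : ℕ}

/-- The field automorphism acting entrywise, as a semisimilitude. -/
def frobSS (m : ℕ) : (F ≃+* F) →* semiSim m F where
  toFun ρ := ⟨frobPerm m ρ, ρ, 1, one_ne_zero, isSemi_frobPerm ρ⟩
  map_one' := rfl
  map_mul' _ _ := rfl

/-- The automorphism of `PSp` induced by a field automorphism. -/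
noncomputable def fld (m : ℕ) : (F ≃+* F) →* MulAut (PSp m F) := (Psi m F).comp (frobSS m)

theorem orderOf_dvd (hm : 1 ≤ m) (ρ : F ≃+* F) : orderOf ρ ∣ orderOf (fld m ρ) := by
  apply orderOf_dvd_of_pow_eq_one
  set k := orderOf (fld m ρ) with hk
  have h1 : fld m (ρ ^ k) = 1 := by rw [map_pow, hk, pow_orderOf_eq_one]
  obtain ⟨a, ha⟩ := exists_scal_of_Psi_eq_one hm (frobSS m (ρ ^ k)) h1
  have h2 : IsSemi (frobPerm m (ρ ^ k)) (ρ ^ k) 1 := isSemi_frobPerm _
  have h3 : IsSemi (frobPerm m (ρ ^ k)) (RingEquiv.refl F) ((a : F) * a) := by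
    have h4 : frobPerm m (ρ ^ k) = scal m F a := ha
    rw [h4]
    exact isSemi_scal a
  exact (IsSemi.unique hm h2 h3).1

theorem copIn [Fintype F] (hm : 2 ≤ m) (h3 : m = 2 → 3 ≤ Fintype.card F) [Finite (PSp m F)]
    [IsSimpleGroup (PSp m F)] (hna : ¬ IsMulCommutative (PSp m F)) (h2 : 2 ∣ Nat.card (PSp m F)) (ρ : F ≃+* F)
    (hρ : orderOf ρ = Nat.card (F ≃+* F)) : CopIn (PSp m F) (fld m ρ) := by
  obtain ⟨p, hchar⟩ := CharP.exists F
  obtain ⟨f, hp, hf⟩ := FiniteField.card F p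
  have hpf : Fact p.Prime := ⟨hp⟩
  have hcard := S0814.result p f f.pos hf m hm (fun h => by rw [← hf]; exact h3 h)
  have hf' : Nat.card (F ≃+* F) = f := Lib.FieldAutCard.card_ringAut f.pos hf
  refine CopIn.of_card hna (Schreier.ClassPSp.sch hm (fun h => by rw [Nat.card_eq_fintype_card]; exact h3 h)) _ 4
    (by norm_num) ?_ ?_
  · intro r hr hd
    have h4 : r ∣ 2 ^ 2 := hd
    rw [(Nat.prime_dvd_prime_iff_eq hr Nat.prime_two).1 (hr.dvd_of_dvd_pow h4)]; exact h2
  · rw [hcard]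
    have h5 : (f : ℕ) ∣ orderOf (fld m ρ) := by
      rw [← hf', ← hρ]
      exact orderOf_dvd (by omega) ρ
    have h6 : Nat.gcd 2 (p ^ (f : ℕ) - 1) ∣ 2 := Nat.gcd_dvd_left _ _
    have h7 : (if m = 2 ∧ p = 2 then 2 else 1) ∣ 2 := by
      split_ifs
      · exact dvd_rfl
      · exact one_dvd _
    have h8 : (4 : ℕ) = 2 * 2 := by norm_num
    rw [h8]
    exact Nat.mul_dvd_mul_right (Nat.mul_dvd_mul (Nat.mul_dvd_mul h7 h6) h5) _

end PSP

/-! ### Unitary groups -/

namespace PSUn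

open Cfsg.Agent.ClassicalGeometry.PSUAutCount

variable {F : Type*} [Field F] {n q : ℕ}

theorem dvd_card [Fintype F] (hF : Fintype.card F = q ^ 2) (hn : 3 ≤ n) {r : ℕ} (hr : r ∣ q + 1) :
    r ∣ Nat.card (PSU n F q) := by
  refine hr.trans ?_
  have hq0 : 0 < q := by
    rcases Nat.eq_zero_or_pos q with h | h
    · exfalso
      rw [h] at hF
      have := Fintype.card_pos (α := F)
      omega
    · exact h
  have h1 := S0280.result (F := F) hF n (by omega)
  have h2 : (q + 1) ^ n ∣ ∏ i ∈ Finset.range n, (if Even i then q ^ (i + 1) + 1 else q ^ (i + 1) - 1) := by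
    have h3 : ∏ _i ∈ Finset.range n, (q + 1) ∣
        ∏ i ∈ Finset.range n, (if Even i then q ^ (i + 1) + 1 else q ^ (i + 1) - 1) := by
      apply Finset.prod_dvd_prod_of_dvd
      intro i _
      split_ifs with he
      · have h4 : Odd (i + 1) := he.add_one
        simpa using h4.nat_add_dvd_pow_add_pow q 1
      · have h4 : 2 ∣ i + 1 := by
          have := Nat.not_even_iff_odd.1 he
          exact (this.add_one).two_dvd
        have h5 : q ^ 2 - 1 ∣ q ^ (i + 1) - 1 := Nat.pow_sub_one_dvd_pow_sub_one q h4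
        refine dvd_trans ?_ h5
        exact ⟨q - 1, by
          obtain ⟨k, rfl⟩ : ∃ k, q = k + 1 := ⟨q - 1, by omega⟩
          rw [Nat.add_sub_cancel]
          have : (k + 1) ^ 2 = (k + 1 + 1) * k + 1 := by ring
          rw [this, Nat.add_sub_cancel]⟩
    simpa using h3
  have h5 : (q + 1) ^ 3 ∣ Nat.gcd n (q + 1) * ((q + 1) * Nat.card (PSU n F q)) := by
    rw [h1]
    exact ((pow_dvd_pow _ hn).trans h2).mul_left _
  have h6 : Nat.gcd n (q + 1) * ((q + 1) * Nat.card (PSU n F q)) ∣ (q + 1) * ((q + 1) * Nat.card (PSU n F q)) :=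
    Nat.mul_dvd_mul_right (Nat.gcd_dvd_right _ _) _
  have h7 := h5.trans h6
  have h8 : (q + 1) ^ 3 = (q + 1) * ((q + 1) * (q + 1)) := by ring
  rw [h8] at h7
  have h9 : 0 < q + 1 := by omega
  exact Nat.dvd_of_mul_dvd_mul_left h9 (Nat.dvd_of_mul_dvd_mul_left h9 h7)

/-- The automorphism of `PSU` induced by a field automorphism. -/
noncomputable def fld (n q : ℕ) : (F ≃+* F) →* MulAut (PSU n F q) := Schreier.PSU.f₂ (F := F) (q := q) (n := n)

theorem fld_apply (ρ : F ≃+* F) : fld n q ρ = toAut (1 : Cfsg.GU n F q) ρ := by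
  rw [Schreier.PSU.toAut_eq, map_one, one_mul]
  rfl

theorem orderOf_eq [Fintype F] (hF : Fintype.card F = q ^ 2) (hn : 3 ≤ n) (ρ : F ≃+* F) :
    orderOf (fld (F := F) n q ρ) = orderOf ρ := by
  apply orderOf_injective
  intro ρ τ h
  rw [fld_apply, fld_apply] at h
  exact ((eq_of_toAut_eq hF hn h).1).symm

theorem copIn [Fintype F] (hF : Fintype.card F = q ^ 2) (hn : 3 ≤ n) (h32 : ¬ (n = 3 ∧ q = 2))
    [Finite (PSU n F q)] [IsSimpleGroup (PSU n F q)] (hna : ¬ IsMulCommutative (PSU n F q)) (ρ : F ≃+* F)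
    (hρ : orderOf ρ = Nat.card (F ≃+* F)) : CopIn (PSU n F q) (fld n q ρ) := by
  obtain ⟨p, hchar⟩ := CharP.exists F
  obtain ⟨e, hp, he⟩ := FiniteField.card F p
  have hpf : Fact p.Prime := ⟨hp⟩
  have hq : ∃ f : ℕ, 1 ≤ f ∧ q = p ^ f := by
    have h1 : q ∣ p ^ (e : ℕ) := by rw [← he, hF]; exact dvd_pow_self q two_ne_zero
    obtain ⟨f, -, hf⟩ := (Nat.dvd_prime_pow hp).1 h1
    refine ⟨f, ?_, hf⟩
    rcases Nat.eq_zero_or_pos f with h0 | h0
    · exfalso
      rw [h0, pow_zero] at hf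
      rw [hf, one_pow] at hF
      have := Fintype.one_lt_card (α := F)
      omega
    · exact h0
  obtain ⟨f, hf1, hq⟩ := hq
  have hcard := S0815.result p f hf1 hq hF n hn h32
  have hf' : Nat.card (F ≃+* F) = 2 * f :=
    Lib.FieldAutCard.card_ringAut (p := p) (by omega) (by rw [hF, hq, ← pow_mul, mul_comm])
  refine CopIn.of_card hna (Schreier.PSU.sch hF hn h32) _ (Nat.gcd n (q + 1)) ?_ ?_ ?_
  · exact Nat.gcd_ne_zero_right (by omega)
  · intro r hr hd
    exact dvd_card hF hn (hd.trans (Nat.gcd_dvd_right _ _))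
  · rw [hcard, orderOf_eq hF hn, hρ, hf']

end PSUn

end Cfsg.Agent.H254
end

-- part: H686/CgPsp
section
set_option linter.all false
open scoped Cfsg.Agent.FastGrp

/-!
# `CG` for the symplectic groups (helper686)
-/

set_option autoImplicit false
set_option linter.unusedSectionVars false

open Cfsg
open scoped Matrix commutatorElement

namespace Cfsg.Agent.H686.CgPsp

open Cfsg.Agent.H15.CopGen Cfsg.Agent.H254 Cfsg.Agent.H254.PSP Cfsg.Agent.ClassicalGeometry.SympAutSemi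
  Cfsg.Agent.ClassicalGeometry.SympGamma Cfsg.Agent.ClassicalGeometry.SympBasic Cfsg.Agent.LieClassical
  Cfsg.Agent.LieClassical.SpFourTwo Cfsg.Agent.LieClassical.SympPerfect

universe u

/-! ### the field automorphism on `Sp` -/

section Map

variable {F : Type u} [Field F] {m : ℕ}

/-- `Sp` -/
abbrev Sp (m : ℕ) (F : Type*) [Field F] := Matrix.symplecticGroup (Fin m) F

/-- the quotient map -/
def pr (m : ℕ) (F : Type*) [Field F] : Sp m F →* PSp m F := QuotientGroup.mk' (Subgroup.center (Sp m F))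

theorem pr_surjective : Function.Surjective (pr m F) := QuotientGroup.mk'_surjective _

theorem pr_eq_one {A : Sp m F} : pr m F A = 1 ↔ A ∈ Subgroup.center (Sp m F) := QuotientGroup.eq_one_iff A

theorem coe_map {R S : Type*} [CommRing R] [CommRing S] (f : R →+* S) (A : Matrix.symplecticGroup (Fin m) R) :
    ((symplecticMap f A : Matrix.symplecticGroup (Fin m) S) : Matrix (Fin m ⊕ Fin m) (Fin m ⊕ Fin m) S) =
      (A : Matrix (Fin m ⊕ Fin m) (Fin m ⊕ Fin m) R).map f := rfl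

theorem map_mulVec' {R S : Type*} [CommRing R] [CommRing S] (f : R →+* S) (A : Matrix (Fin m ⊕ Fin m) (Fin m ⊕ Fin m) R)
    (v : Fin m ⊕ Fin m → R) : (A.map f) *ᵥ (fun i => f (v i)) = fun i => f ((A *ᵥ v) i) := by
  funext i
  simp only [Matrix.mulVec, dotProduct, _root_.Matrix.map_apply, _root_.Fintype.sum_sum_type, _root_.map_add, _root_.map_sum, _root_.map_mul]

theorem conjHom_frob (ρ : F ≃+* F) (A : Sp m F) : conjHom m F (frobSS m ρ) A = symplecticMap (ρ : F →+* F) A := by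
  apply rho_injective
  rw [rho_conjHom]
  ext v : 1
  show frobPerm m ρ (rho m F A ((frobPerm m ρ)⁻¹ v)) = _
  rw [rho_apply, rho_apply, coe_map]
  have h1 : v = fun i => (ρ : F →+* F) (((frobPerm m ρ)⁻¹ v) i) := by
    have h2 : frobPerm m ρ ((frobPerm m ρ)⁻¹ v) = v := perm_apply_inv_self _ _
    exact h2.symm
  conv_rhs => rw [h1]
  rw [map_mulVec']
  rfl

theorem fld_pr (ρ : F ≃+* F) (A : Sp m F) : fld m ρ (pr m F A) = pr m F (symplecticMap (ρ : F →+* F) A) := by
  show Psi m F (frobSS m ρ) (QuotientGroup.mk A) = _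
  rw [Psi_mk, conjHom_frob]
  rfl

theorem map_transv {R S : Type*} [CommRing R] [CommRing S] (f : R →+* S) (v : Fin m ⊕ Fin m → R) (c : R) :
    symplecticMap f (transv v c) = transv (fun i => f (v i)) (f c) := by
  apply Subtype.ext
  rw [coe_map, coe_transv, coe_transv]
  unfold sympTransvection
  have hJ : Matrix.J (Fin m) S *ᵥ (fun i => f (v i)) = fun i => f ((Matrix.J (Fin m) R *ᵥ v) i) := by
    rw [← map_mulVec' f]
    congr 1
    ext i j
    rcases i with i | i <;> rcases j with j | j <;> simp only [Matrix.J, Matrix.one_apply, apply_ite f, _root_.Matrix.fromBlocks_apply₁₁, _root_.Matrix.zero_apply, _root_.Matrix.map_apply, _root_.map_zero, _root_.Matrix.fromBlocks_apply₁₂, _root_.Matrix.neg_apply, _root_.map_neg, _root_.map_one, _root_.Matrix.fromBlocks_apply₂₁, _root_.Matrix.fromBlocks_apply₂₂]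
  rw [hJ]
  ext i j
  simp [Matrix.vecMulVec_apply, Matrix.one_apply, apply_ite f]

end Map

/-! ### transvections modulo the centre -/

section Trans

variable {F : Type u} [Field F] {m : ℕ}

/-- an element commuting with a transvection modulo the centre commutes with its root group -/
theorem comm_transv {C : Sp m F} {v : Fin m ⊕ Fin m → F} (hv : v ≠ 0)
    (h : pr m F C * pr m F (transv v 1) = pr m F (transv v 1) * pr m F C) (t : F) :
    C * transv v t = transv v t * C := by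
  have h1 : pr m F ((transv v 1)⁻¹ * (C * transv v 1 * C⁻¹)) = 1 := by
    rw [map_mul, map_mul, map_mul, h, map_inv, map_inv, mul_inv_cancel_right, inv_mul_cancel]
  rw [pr_eq_one, SympCenter.mem_center_iff] at h1
  obtain ⟨a, ha⟩ := h1
  rw [conj_transv] at ha
  set w := (C : Matrix (Fin m ⊕ Fin m) (Fin m ⊕ Fin m) F) *ᵥ v with hw
  -- `T_w = a T_v`
  have h2 : ∀ x : Fin m ⊕ Fin m → F, x + (1 * sympForm m F x w) • w = a • (x + (1 * sympForm m F x v) • v) := by
    intro x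
    have h3 : (transv w 1 : Sp m F) = transv v 1 * ((transv v 1)⁻¹ * transv w 1) := by rw [mul_inv_cancel_left]
    have h4 : ((transv w 1 : Sp m F) : Matrix (Fin m ⊕ Fin m) (Fin m ⊕ Fin m) F) *ᵥ x =
        ((transv v 1 : Sp m F) : Matrix (Fin m ⊕ Fin m) (Fin m ⊕ Fin m) F) *ᵥ
          ((((transv v 1)⁻¹ * transv w 1 : Sp m F) : Matrix (Fin m ⊕ Fin m) (Fin m ⊕ Fin m) F) *ᵥ x) := by
      conv_lhs => rw [h3]
      exact coe_mul_mulVec _ _ _
    rw [show (((transv v 1)⁻¹ * transv w 1 : Sp m F) : Matrix (Fin m ⊕ Fin m) (Fin m ⊕ Fin m) F) = a • 1 from ha,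
      Matrix.smul_mulVec, Matrix.one_mulVec, Matrix.mulVec_smul, coe_transv, coe_transv, sympTransvection_mulVec,
      sympTransvection_mulVec] at h4
    exact h4
  have hww : w ≠ 0 := by
    intro h0
    apply hv
    have h3 : ((C⁻¹ * C : Sp m F) : Matrix (Fin m ⊕ Fin m) (Fin m ⊕ Fin m) F) *ᵥ v = 0 := by
      rw [coe_mul_mulVec, ← hw, h0, Matrix.mulVec_zero]
    rw [inv_mul_cancel] at h3
    simpa only [_root_.OneMemClass.coe_one, _root_.Matrix.one_mulVec] using h3
  have h3 := h2 v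
  rw [sympForm_self, mul_zero, zero_smul, add_zero, one_mul] at h3
  have ha1 : a = 1 := by
    by_cases h4 : sympForm m F v w = 0
    · rw [h4, zero_smul, add_zero] at h3
      have h5 : (a - 1) • v = 0 := by rw [sub_smul, one_smul, ← h3, sub_self]
      exact sub_eq_zero.1 ((smul_eq_zero.1 h5).resolve_right hv)
    · exfalso
      have h5 : w = ((sympForm m F v w)⁻¹ * (a - 1)) • v := by
        have h6 : sympForm m F v w • w = (a - 1) • v := by
          rw [sub_smul, one_smul, ← h3]; abel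
        rw [mul_smul, ← h6, smul_smul, inv_mul_cancel₀ h4, one_smul]
      apply h4
      rw [h5, sympForm_smul_right, sympForm_self, mul_zero]
  subst ha1
  have h4 : ∀ x, sympForm m F x w • w = sympForm m F x v • v := by
    intro x
    have h5 := h2 x
    rw [one_smul, one_mul, one_mul] at h5
    exact add_left_cancel h5
  obtain ⟨x, hx⟩ : ∃ x, sympForm m F x w ≠ 0 := by
    by_contra hcon
    push Not at hcon
    exact hww (eq_zero_of_forall_sympForm_left hcon)
  obtain ⟨c, hc⟩ : ∃ c : F, w = c • v := ⟨(sympForm m F x w)⁻¹ * sympForm m F x v, by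
    rw [mul_smul, ← h4 x, smul_smul, inv_mul_cancel₀ hx, one_smul]⟩
  have hc2 : c ^ 2 = 1 := by
    have h5 := h4 x
    rw [hc, sympForm_smul_right, smul_smul] at h5
    have h6 : (c * sympForm m F x v * c - sympForm m F x v) • v = 0 := by rw [sub_smul, h5, sub_self]
    have h7 := (smul_eq_zero.1 h6).resolve_right hv
    have h8 : sympForm m F x v ≠ 0 := by
      intro h9
      apply hx
      rw [hc, sympForm_smul_right, h9, mul_zero]
    have h9 : (c ^ 2 - 1) * sympForm m F x v = 0 := by rw [← h7]; ring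
    exact sub_eq_zero.1 ((mul_eq_zero.1 h9).resolve_right h8)
  have h5 : C * transv v t * C⁻¹ = transv v t := by
    rw [conj_transv, ← hw, hc, transv_smul, hc2, one_mul]
  exact mul_inv_eq_iff_eq_mul.1 h5

/-- the root group of `v` in the quotient -/
def rt (v : Fin m ⊕ Fin m → F) : Subgroup (PSp m F) where
  carrier := {x | ∃ t : F, x = pr m F (transv v t)}
  one_mem' := ⟨0, by rw [transv_zero, map_one]⟩
  mul_mem' := by
    rintro _ _ ⟨s, rfl⟩ ⟨t, rfl⟩
    exact ⟨s + t, by rw [← map_mul, transv_mul]⟩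
  inv_mem' := by
    rintro _ ⟨s, rfl⟩
    refine ⟨-s, ?_⟩
    rw [← map_inv]
    congr 1
    rw [inv_eq_iff_mul_eq_one, transv_mul, add_neg_cancel, transv_zero]

theorem rt_le_dc {v : Fin m ⊕ Fin m → F} (hv : v ≠ 0) : rt v ≤ dc (pr m F (transv v 1)) := by
  rintro _ ⟨t, rfl⟩
  rw [mem_dc]
  intro c hc
  obtain ⟨C, rfl⟩ := pr_surjective c
  rw [← map_mul, comm_transv hv hc t, map_mul]

end Trans

/-! ### generation -/

section Gen

variable {F : Type u} [Field F] {m : ℕ}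

theorem coord_transv (v x : Fin m ⊕ Fin m → F) (t : F) :
    ((transv v t : Sp m F) : Matrix (Fin m ⊕ Fin m) (Fin m ⊕ Fin m) F) *ᵥ x = x + (t * sympForm m F x v) • v := by
  rw [coe_transv, sympTransvection_mulVec]

/-- change the coordinate `inl i` -/
theorem set_inl {H : Subgroup (Sp m F)} {i : Fin m} (hH : ∀ t, transv (Pi.single (Sum.inl i) 1) t ∈ H)
    (x : Fin m ⊕ Fin m → F) (hx : x (Sum.inr i) ≠ 0) (c : F) :
    ∃ h ∈ H, (h : Matrix (Fin m ⊕ Fin m) (Fin m ⊕ Fin m) F) *ᵥ x = Function.update x (Sum.inl i) c := by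
  classical
  have h1 : sympForm m F x (Pi.single (Sum.inl i) 1) = x (Sum.inr i) := by
    rw [sympForm_single_inl_right]
  refine ⟨_, hH ((c - x (Sum.inl i)) * (x (Sum.inr i))⁻¹), ?_⟩
  rw [coord_transv, h1, mul_assoc, inv_mul_cancel₀ hx, mul_one]
  funext j
  by_cases hj : j = Sum.inl i
  · subst hj
    simp
  · simp [Function.update_of_ne hj, Pi.single_eq_of_ne hj]

/-- change the coordinate `inr i` -/
theorem set_inr {H : Subgroup (Sp m F)} {i : Fin m} (hH : ∀ t, transv (Pi.single (Sum.inr i) 1) t ∈ H)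
    (x : Fin m ⊕ Fin m → F) (hx : x (Sum.inl i) ≠ 0) (c : F) :
    ∃ h ∈ H, (h : Matrix (Fin m ⊕ Fin m) (Fin m ⊕ Fin m) F) *ᵥ x = Function.update x (Sum.inr i) c := by
  classical
  have h1 : sympForm m F x (Pi.single (Sum.inr i) 1) = -x (Sum.inl i) := by
    rw [sympForm_single_inr_right]
  refine ⟨_, hH (-(c - x (Sum.inr i)) * (x (Sum.inl i))⁻¹), ?_⟩
  rw [coord_transv, h1, mul_assoc, mul_neg, inv_mul_cancel₀ hx, mul_neg, mul_one, neg_neg]
  funext j
  by_cases hj : j = Sum.inr i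
  · subst hj
    simp
  · simp [Function.update_of_ne hj, Pi.single_eq_of_ne hj]

/-- normalise the coordinates `inl i`, `inr i` -/
theorem norm_plane {H : Subgroup (Sp m F)} {i : Fin m} (hl : ∀ t, transv (Pi.single (Sum.inl i) 1) t ∈ H)
    (hr : ∀ t, transv (Pi.single (Sum.inr i) 1) t ∈ H) (x : Fin m ⊕ Fin m → F) :
    ∃ h ∈ H, (∀ j : Fin m, j ≠ i →
      ((h : Matrix (Fin m ⊕ Fin m) (Fin m ⊕ Fin m) F) *ᵥ x) (Sum.inl j) = x (Sum.inl j) ∧
      ((h : Matrix (Fin m ⊕ Fin m) (Fin m ⊕ Fin m) F) *ᵥ x) (Sum.inr j) = x (Sum.inr j)) ∧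
      (((h : Matrix (Fin m ⊕ Fin m) (Fin m ⊕ Fin m) F) *ᵥ x) (Sum.inl i) = 0 ∨
        ((h : Matrix (Fin m ⊕ Fin m) (Fin m ⊕ Fin m) F) *ᵥ x) (Sum.inl i) = 1) ∧
      ((h : Matrix (Fin m ⊕ Fin m) (Fin m ⊕ Fin m) F) *ᵥ x) (Sum.inr i) = 0 := by
  classical
  -- the case of a nonzero coordinate `inr i`
  have key : ∀ y : Fin m ⊕ Fin m → F, y (Sum.inr i) ≠ 0 → ∃ h ∈ H, (∀ j : Fin m, j ≠ i →
      ((h : Matrix (Fin m ⊕ Fin m) (Fin m ⊕ Fin m) F) *ᵥ y) (Sum.inl j) = y (Sum.inl j) ∧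
      ((h : Matrix (Fin m ⊕ Fin m) (Fin m ⊕ Fin m) F) *ᵥ y) (Sum.inr j) = y (Sum.inr j)) ∧
      ((h : Matrix (Fin m ⊕ Fin m) (Fin m ⊕ Fin m) F) *ᵥ y) (Sum.inl i) = 1 ∧
      ((h : Matrix (Fin m ⊕ Fin m) (Fin m ⊕ Fin m) F) *ᵥ y) (Sum.inr i) = 0 := by
    intro y hy
    obtain ⟨h1, hh1, e1⟩ := set_inl hl y hy 1
    obtain ⟨h2, hh2, e2⟩ := set_inr hr (Function.update y (Sum.inl i) 1) (by simp) 0
    refine ⟨h2 * h1, H.mul_mem hh2 hh1, fun j hj => ?_, ?_, ?_⟩
    · rw [coe_mul_mulVec, e1, e2]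
      have h3 : (Sum.inl j : Fin m ⊕ Fin m) ≠ Sum.inl i := fun h => hj (Sum.inl.inj h)
      have h4 : (Sum.inr j : Fin m ⊕ Fin m) ≠ Sum.inr i := fun h => hj (Sum.inr.inj h)
      rw [Function.update_of_ne (by simp), Function.update_of_ne h3, Function.update_of_ne h4,
        Function.update_of_ne (by simp)]
      exact ⟨rfl, rfl⟩
    · rw [coe_mul_mulVec, e1, e2, Function.update_of_ne (by simp), Function.update_self]
    · rw [coe_mul_mulVec, e1, e2, Function.update_self]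
  by_cases hr0 : x (Sum.inr i) = 0
  · by_cases hl0 : x (Sum.inl i) = 0
    · refine ⟨1, H.one_mem, fun j _ => ?_, Or.inl ?_, ?_⟩
      · simp only [_root_.OneMemClass.coe_one, _root_.Matrix.one_mulVec, _root_.and_self]
      · simpa only [_root_.OneMemClass.coe_one, _root_.Matrix.one_mulVec] using hl0
      · simpa using hr0
    · obtain ⟨h1, hh1, e1⟩ := set_inr hr x hl0 1
      obtain ⟨h2, hh2, e2, e3, e4⟩ := key (Function.update x (Sum.inr i) 1) (by simp)
      refine ⟨h2 * h1, H.mul_mem hh2 hh1, fun j hj => ?_, Or.inr ?_, ?_⟩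
      · rw [coe_mul_mulVec, e1, (e2 j hj).1, (e2 j hj).2, Function.update_of_ne (by simp),
          Function.update_of_ne (fun h => hj (Sum.inr.inj h))]
        exact ⟨rfl, rfl⟩
      · rw [coe_mul_mulVec, e1, e3]
      · rw [coe_mul_mulVec, e1, e4]
  · obtain ⟨h, hh, e2, e3, e4⟩ := key x hr0
    exact ⟨h, hh, e2, Or.inr e3, e4⟩

/-- normalise all coordinates -/
theorem norm_all {H : Subgroup (Sp m F)} (hl : ∀ i t, transv (Pi.single (Sum.inl i) 1) t ∈ H)
    (hr : ∀ i t, transv (Pi.single (Sum.inr i) 1) t ∈ H) (x : Fin m ⊕ Fin m → F) (S : Finset (Fin m)) :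
    ∃ h ∈ H, ∀ j ∈ S, (((h : Matrix (Fin m ⊕ Fin m) (Fin m ⊕ Fin m) F) *ᵥ x) (Sum.inl j) = 0 ∨
        ((h : Matrix (Fin m ⊕ Fin m) (Fin m ⊕ Fin m) F) *ᵥ x) (Sum.inl j) = 1) ∧
      ((h : Matrix (Fin m ⊕ Fin m) (Fin m ⊕ Fin m) F) *ᵥ x) (Sum.inr j) = 0 := by
  classical
  induction S using Finset.induction_on with
  | empty => exact ⟨1, H.one_mem, fun j hj => absurd hj (Finset.notMem_empty j)⟩
  | insert i S hi ih =>
    obtain ⟨h1, hh1, e1⟩ := ih
    obtain ⟨h2, hh2, e2, e3, e4⟩ := norm_plane (hl i) (hr i) ((h1 : Matrix (Fin m ⊕ Fin m) (Fin m ⊕ Fin m) F) *ᵥ x)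
    refine ⟨h2 * h1, H.mul_mem hh2 hh1, fun j hj => ?_⟩
    rw [coe_mul_mulVec]
    rcases Finset.mem_insert.1 hj with rfl | hj
    · exact ⟨e3, e4⟩
    · have hji : j ≠ i := fun h => hi (h ▸ hj)
      rw [(e2 j hji).1, (e2 j hji).2]
      exact e1 j hj

/-- **generation** : `Sp_{2m}(E)` and one full root group generate `Sp_{2m}(F)` -/
theorem gen_top {E : Type*} [Field E] (f : E →+* F) {H : Subgroup (Sp m F)}
    (hE : ∀ A : Sp m E, (symplecticMap f A : Sp m F) ∈ H) {v : Fin m ⊕ Fin m → E} (hv : v ≠ 0)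
    (hV : ∀ t : F, (transv (fun i => f (v i)) t : Sp m F) ∈ H) : H = ⊤ := by
  classical
  -- rational vectors
  have h1 : ∀ w : Fin m ⊕ Fin m → E, w ≠ 0 → ∀ t : F, (transv (fun i => f (w i)) t : Sp m F) ∈ H := by
    intro w hw t
    obtain ⟨A, -, hA⟩ := exists_transvGroup_mulVec_eq hv hw
    have h2 : (transv (fun i => f (w i)) t : Sp m F) = symplecticMap f A * transv (fun i => f (v i)) t * (symplecticMap f A)⁻¹ := by
      rw [conj_transv, coe_map, map_mulVec', hA]
    rw [h2]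
    exact H.mul_mem (H.mul_mem (hE A) (hV t)) (H.inv_mem (hE A))
  have hs : ∀ j : Fin m ⊕ Fin m, (fun i => f ((Pi.single j 1 : Fin m ⊕ Fin m → E) i)) = (Pi.single j 1 : Fin m ⊕ Fin m → F) := by
    intro j
    funext i
    by_cases hi : i = j
    · subst hi; simp
    · simp [Pi.single_eq_of_ne hi]
  have hb : ∀ j : Fin m ⊕ Fin m, ∀ t : F, (transv (Pi.single j 1) t : Sp m F) ∈ H := by
    intro j t
    rw [← hs j]
    exact h1 _ (fun h => one_ne_zero (α := E) (by simpa using congrFun h j)) t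
  -- all transvections
  have hgen : Subgroup.closure {A : Matrix.symplecticGroup (Fin m) F | ∃ (w : Fin m ⊕ Fin m → F) (c : F),
    (A : Matrix (Fin m ⊕ Fin m) (Fin m ⊕ Fin m) F) = Cfsg.sympTransvection m w c} = ⊤ := S0765.result (F := F) m
  rw [eq_top_iff, ← hgen, Subgroup.closure_le]
  rintro A ⟨w, c, hA⟩
  have hA' : A = transv w c := Subtype.ext hA
  show A ∈ H
  rw [hA']
  by_cases hw : w = 0
  · have h2 : (transv w c : Sp m F) = 1 := by
      rw [hw, show (0 : Fin m ⊕ Fin m → F) = (0 : F) • (0 : Fin m ⊕ Fin m → F) by rw [zero_smul], transv_smul]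
      rw [zero_pow two_ne_zero, zero_mul, transv_zero]
    rw [h2]
    exact H.one_mem
  obtain ⟨h, hh, e⟩ := norm_all (H := H) (fun i t => hb (Sum.inl i) t) (fun i t => hb (Sum.inr i) t) w Finset.univ
  set y := (h : Matrix (Fin m ⊕ Fin m) (Fin m ⊕ Fin m) F) *ᵥ w with hy
  have hy01 : ∀ j, y j = 0 ∨ y j = 1 := by
    rintro (j | j)
    · exact (e j (Finset.mem_univ j)).1
    · exact Or.inl (e j (Finset.mem_univ j)).2
  set y' : Fin m ⊕ Fin m → E := fun j => if y j = 0 then 0 else 1 with hy'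
  have hyy : y = fun j => f (y' j) := by
    funext j
    rw [hy']
    rcases hy01 j with h2 | h2
    · simp [h2]
    · simp [h2]
  have hw2 : ((h⁻¹ : Sp m F) : Matrix (Fin m ⊕ Fin m) (Fin m ⊕ Fin m) F) *ᵥ y = w := by
    rw [hy, ← coe_mul_mulVec, inv_mul_cancel]
    simp only [_root_.OneMemClass.coe_one, _root_.Matrix.one_mulVec]
  have hy0 : y' ≠ 0 := by
    intro h0
    apply hw
    rw [← hw2, hyy, h0]
    have : (fun j => f ((0 : Fin m ⊕ Fin m → E) j)) = 0 := by funext j; simp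
    rw [this, Matrix.mulVec_zero]
  have h3 : (transv w c : Sp m F) = h⁻¹ * transv y c * h := by
    have h4 := conj_transv (h⁻¹) y c
    rw [inv_inv, hw2] at h4
    exact h4.symm
  rw [h3]
  refine H.mul_mem (H.mul_mem (H.inv_mem hh) ?_) hh
  rw [hyy]
  exact h1 y' hy0 c

end Gen

/-! ### the fixed points -/

section Fix

variable {F : Type u} [Field F] {m : ℕ}

/-- the fixed field -/
def Ef (ρ : F ≃+* F) : Subfield F := (ρ : F →+* F).eqLocusField (RingHom.id F)

theorem mem_Ef {ρ : F ≃+* F} {x : F} : x ∈ Ef ρ ↔ ρ x = x := Iff.rfl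

/-- the embedding of `Sp_{2m}(E)` followed by the projection -/
noncomputable def phi (m : ℕ) (ρ : F ≃+* F) : Sp m ↥(Ef ρ) →* PSp m F :=
  (pr m F).comp (symplecticMap (Ef ρ).subtype)

theorem phi_apply (ρ : F ≃+* F) (A : Sp m ↥(Ef ρ)) : phi m ρ A = pr m F (symplecticMap (Ef ρ).subtype A) := rfl

theorem map_emb (ρ : F ≃+* F) (A : Sp m ↥(Ef ρ)) :
    (symplecticMap (ρ : F →+* F) (symplecticMap (Ef ρ).subtype A : Sp m F) : Sp m F) = symplecticMap (Ef ρ).subtype A := by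
  apply Subtype.ext
  rw [coe_map, coe_map]
  ext i j
  exact mem_Ef.1 ((A : Matrix (Fin m ⊕ Fin m) (Fin m ⊕ Fin m) ↥(Ef ρ)) i j).2

/-- a matrix with entries in `E` -/
theorem exists_emb {ρ : F ≃+* F} {A : Sp m F}
    (h : ∀ i j, ρ ((A : Matrix (Fin m ⊕ Fin m) (Fin m ⊕ Fin m) F) i j) = (A : Matrix (Fin m ⊕ Fin m) (Fin m ⊕ Fin m) F) i j) :
    ∃ B : Sp m ↥(Ef ρ), (symplecticMap (Ef ρ).subtype B : Sp m F) = A := by
  set B : Matrix (Fin m ⊕ Fin m) (Fin m ⊕ Fin m) ↥(Ef ρ) :=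
    fun i j => ⟨(A : Matrix (Fin m ⊕ Fin m) (Fin m ⊕ Fin m) F) i j, h i j⟩ with hB
  have hBm : B.map (Ef ρ).subtype = (A : Matrix (Fin m ⊕ Fin m) (Fin m ⊕ Fin m) F) := rfl
  have hJ : (Matrix.J (Fin m) ↥(Ef ρ)).map (Ef ρ).subtype = Matrix.J (Fin m) F := by
    ext i j
    rcases i with i | i <;> rcases j with j | j <;> simp only [Matrix.J, Matrix.one_apply, _root_.Subfield.coe_subtype, _root_.Matrix.map_apply, _root_.Matrix.fromBlocks_apply₁₁, _root_.Matrix.zero_apply, _root_.ZeroMemClass.coe_zero, _root_.Matrix.fromBlocks_apply₁₂, _root_.Matrix.neg_apply, _root_.NegMemClass.coe_neg, _root_.neg_inj, _root_.Matrix.fromBlocks_apply₂₁, _root_.Matrix.fromBlocks_apply₂₂] <;> split_ifs <;> rfl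
  have hinj : Function.Injective (fun M : Matrix (Fin m ⊕ Fin m) (Fin m ⊕ Fin m) ↥(Ef ρ) => M.map (Ef ρ).subtype) := by
    intro M N hMN
    ext i j
    exact congrFun (congrFun hMN i) j
  refine ⟨⟨B, ?_⟩, Subtype.ext hBm⟩
  rw [SymplecticGroup.mem_iff]
  apply hinj
  show (B * Matrix.J (Fin m) ↥(Ef ρ) * Bᵀ).map (Ef ρ).subtype = (Matrix.J (Fin m) ↥(Ef ρ)).map (Ef ρ).subtype
  have hBt : Bᵀ.map (Ef ρ).subtype = (A : Matrix (Fin m ⊕ Fin m) (Fin m ⊕ Fin m) F)ᵀ := rfl
  rw [Matrix.map_mul, Matrix.map_mul, hJ, hBt, hBm]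
  exact SymplecticGroup.mem_iff.1 A.2

theorem fx_eq {ρ : F ≃+* F} (hodd : Odd (orderOf ρ)) : fx (fld m ρ) = (phi m ρ).range := by
  apply le_antisymm
  · intro x hx
    obtain ⟨A, rfl⟩ := pr_surjective x
    have h1 : pr m F (symplecticMap (ρ : F →+* F) A) = pr m F A := by rw [← fld_pr]; exact hx
    have h2 : pr m F (A⁻¹ * symplecticMap (ρ : F →+* F) A) = 1 := by
      rw [map_mul, map_inv, h1, inv_mul_cancel]
    rw [pr_eq_one, SympCenter.mem_center_iff] at h2
    obtain ⟨a, ha⟩ := h2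
    have hρA : (symplecticMap (ρ : F →+* F) A : Sp m F) = A * (A⁻¹ * symplecticMap (ρ : F →+* F) A) := by
      rw [mul_inv_cancel_left]
    have hent : ∀ i j, ρ ((A : Matrix (Fin m ⊕ Fin m) (Fin m ⊕ Fin m) F) i j) =
        a * (A : Matrix (Fin m ⊕ Fin m) (Fin m ⊕ Fin m) F) i j := by
      intro i j
      have h3 : ((symplecticMap (ρ : F →+* F) A : Sp m F) : Matrix (Fin m ⊕ Fin m) (Fin m ⊕ Fin m) F) =
          (A : Matrix (Fin m ⊕ Fin m) (Fin m ⊕ Fin m) F) * (a • 1) := by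
        conv_lhs => rw [hρA]
        rw [Submonoid.coe_mul, ha]
      have h4 := congrFun (congrFun h3 i) j
      rw [Matrix.mul_smul, Matrix.mul_one] at h4
      exact h4
    have ha2 : m ≠ 0 → a * a = 1 := by
      intro hm
      refine SympCenter.sq_eq_one_of_smul_mem (m := m) (by omega) ?_
      rw [← ha]
      exact (A⁻¹ * symplecticMap (ρ : F →+* F) A : Sp m F).2
    apply (exists_emb (ρ := ρ) (A := A) ?_).elim
    · intro B hB
      exact ⟨B, by rw [phi_apply, hB]⟩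
    · intro i j
      have hm : m ≠ 0 := by
        rintro rfl
        rcases i with i | i <;> exact i.elim0
      have haa := ha2 hm
      have hρa : ρ a = a := by
        have h5 : (a - 1) * (a + 1) = 0 := by linear_combination haa
        rcases mul_eq_zero.1 h5 with h6 | h6
        · rw [sub_eq_zero.1 h6, map_one]
        · rw [eq_neg_of_add_eq_zero_left h6, map_neg, map_one]
      have hpow : ∀ k : ℕ, (ρ ^ k) ((A : Matrix (Fin m ⊕ Fin m) (Fin m ⊕ Fin m) F) i j) =
          a ^ k * (A : Matrix (Fin m ⊕ Fin m) (Fin m ⊕ Fin m) F) i j := by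
        intro k
        induction k with
        | zero => rw [pow_zero, pow_zero, one_mul]; rfl
        | succ k ih =>
          rw [pow_succ', RingAut.mul_apply, ih, map_mul, map_pow, hρa, hent, pow_succ]
          ring
      have h7 := hpow (orderOf ρ)
      rw [pow_orderOf_eq_one] at h7
      obtain ⟨k, hk⟩ := hodd
      rw [hk, pow_succ, pow_mul, show a ^ 2 = 1 by rw [pow_two]; exact haa, one_pow, one_mul] at h7
      rw [hent, ← h7]
      rfl
  · rintro _ ⟨B, rfl⟩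
    show fld m ρ (phi m ρ B) = phi m ρ B
    rw [phi_apply, fld_pr, map_emb]

theorem ker_phi (ρ : F ≃+* F) : (phi m ρ).ker = Subgroup.center (Sp m ↥(Ef ρ)) := by
  ext A
  rw [MonoidHom.mem_ker, phi_apply, pr_eq_one, SympCenter.mem_center_iff, SympCenter.mem_center_iff]
  constructor
  · rintro ⟨a, ha⟩
    have h1 : ∀ i j, (((A : Matrix (Fin m ⊕ Fin m) (Fin m ⊕ Fin m) ↥(Ef ρ)) i j : ↥(Ef ρ)) : F) =
        if i = j then a else 0 := by
      intro i j
      have h2 : (((A : Matrix (Fin m ⊕ Fin m) (Fin m ⊕ Fin m) ↥(Ef ρ)) i j : ↥(Ef ρ)) : F) =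
          (a • (1 : Matrix (Fin m ⊕ Fin m) (Fin m ⊕ Fin m) F)) i j := congrFun (congrFun ha i) j
      rw [h2, Matrix.smul_apply, Matrix.one_apply]
      split_ifs
      · rw [smul_eq_mul, mul_one]
      · rw [smul_zero]
    rcases Nat.eq_zero_or_pos m with hm | hm
    · subst hm
      refine ⟨1, ?_⟩
      ext i j
      rcases i with i | i <;> exact i.elim0
    · refine ⟨(A : Matrix (Fin m ⊕ Fin m) (Fin m ⊕ Fin m) ↥(Ef ρ)) (Sum.inl ⟨0, hm⟩) (Sum.inl ⟨0, hm⟩), ?_⟩
      ext i j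
      rw [Matrix.smul_apply, Matrix.one_apply, h1]
      by_cases hij : i = j
      · rw [if_pos hij, if_pos hij, smul_eq_mul, mul_one, h1, if_pos rfl]
      · rw [if_neg hij, if_neg hij, smul_zero]
        rfl
  · rintro ⟨a, ha⟩
    refine ⟨(a : F), ?_⟩
    rw [coe_map, ha]
    ext i j
    by_cases hij : i = j
    · subst hij; simp only [_root_.Subfield.coe_subtype, _root_.Matrix.map_apply, _root_.Matrix.smul_apply, _root_.Matrix.one_apply_eq, _root_.smul_eq_mul, _root_.mul_one]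
    · simp only [hij, _root_.Subfield.coe_subtype, _root_.Matrix.map_apply, _root_.Matrix.smul_apply, _root_.ne_eq, _root_.not_false_eq_true, _root_.Matrix.one_apply_ne, _root_.smul_eq_mul, _root_.MulZeroClass.mul_zero, _root_.ZeroMemClass.coe_zero]

end Fix

/-! ### `PSp` is not abelian and has even order -/

section Basic

variable {F : Type u} [Field F] {m : ℕ}

theorem symJ_not_mem (hm : 1 ≤ m) : (SymplecticGroup.symJ (Fin m) F : Sp m F) ∉ Subgroup.center (Sp m F) := by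
  intro h
  rw [SympCenter.mem_center_iff] at h
  obtain ⟨a, ha⟩ := h
  have h1 : Matrix.J (Fin m) F = a • 1 := ha
  have h2 := congrFun (congrFun h1 (Sum.inr ⟨0, hm⟩)) (Sum.inl ⟨0, hm⟩)
  simp [Matrix.J] at h2

theorem two_dvd_card [Finite (PSp m F)] (hm : 1 ≤ m) : 2 ∣ Nat.card (PSp m F) := by
  have h1 : orderOf (pr m F (SymplecticGroup.symJ (Fin m) F)) = 2 := by
    refine orderOf_eq_prime ?_ ?_
    · rw [← map_pow, pr_eq_one, SympCenter.mem_center_iff]
      refine ⟨-1, ?_⟩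
      rw [pow_two, Submonoid.coe_mul]
      show Matrix.J (Fin m) F * Matrix.J (Fin m) F = (-1 : F) • 1
      rw [Matrix.J_squared, neg_one_smul]
    · rw [Ne, pr_eq_one]
      exact symJ_not_mem hm
  rw [← h1]
  exact orderOf_dvd_natCard _

theorem psp_nonab [Fintype F] (hm : 2 ≤ m) (h : m = 2 → 3 ≤ Fintype.card F) : ¬ IsMulCommutative (PSp m F) := by
  intro hc
  have hperf : commutator (Sp m F) = ⊤ := by
    refine Cfsg.Agent.S0269.result m ?_
    by_cases h2 : m = 2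
    · exact Or.inr (Or.inl ⟨h2, h h2⟩)
    · left; omega
  have h1 : commutator (Sp m F) ≤ Subgroup.center (Sp m F) := by
    rw [commutator_def, Subgroup.commutator_le]
    intro a _ b _
    rw [← pr_eq_one, map_commutatorElement, commutatorElement_eq_one_iff_mul_comm]
    exact hc.is_comm.comm _ _
  rw [hperf] at h1
  exact symJ_not_mem (by omega) (h1 (Subgroup.mem_top _))

end Basic

/-! ### the theorem -/

section Main

variable {F : Type u} [Field F] {m : ℕ}

/-- the base vector -/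
def v0 (m : ℕ) (hm : 0 < m) (E : Type*) [Field E] : Fin m ⊕ Fin m → E := Pi.single (Sum.inl ⟨0, hm⟩) 1

theorem v0_ne (hm : 0 < m) (E : Type*) [Field E] : v0 m hm E ≠ 0 := by
  intro h
  have h1 := congrFun h (Sum.inl ⟨0, hm⟩)
  simp [v0] at h1

theorem map_v0 (hm : 0 < m) {E : Type*} [Field E] (f : E →+* F) : (fun i => f (v0 m hm E i)) = v0 m hm F := by
  funext i
  by_cases hi : i = Sum.inl ⟨0, hm⟩
  · subst hi; simp [v0]
  · simp [v0, Pi.single_eq_of_ne hi]

theorem fld_rt (hm : 0 < m) (ρ : F ≃+* F) (t : F) :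
    fld m ρ (pr m F (transv (v0 m hm F) t)) = pr m F (transv (v0 m hm F) (ρ t)) := by
  rw [fld_pr, map_transv, map_v0]
  rfl

theorem phi_rt (hm : 0 < m) (ρ : F ≃+* F) : phi m ρ (transv (v0 m hm ↥(Ef ρ)) 1) = pr m F (transv (v0 m hm F) 1) := by
  rw [phi_apply, map_transv, map_v0, map_one]

theorem gen_rt (hm : 0 < m) (ρ : F ≃+* F) : (phi m ρ).range ⊔ rt (v0 m hm F) = ⊤ := by
  have h1 : ((phi m ρ).range ⊔ rt (v0 m hm F)).comap (pr m F) = ⊤ := by
    refine gen_top (Ef ρ).subtype (fun A => ?_) (v0_ne hm ↥(Ef ρ)) (fun t => ?_)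
    · exact Subgroup.mem_sup_left (show pr m F _ ∈ (phi m ρ).range from ⟨A, rfl⟩)
    · rw [map_v0]
      exact Subgroup.mem_sup_right (show pr m F _ ∈ rt (v0 m hm F) from ⟨t, rfl⟩)
  have h2 := congrArg (Subgroup.map (pr m F)) h1
  rw [Subgroup.map_comap_eq_self_of_surjective pr_surjective, Subgroup.map_top_of_surjective _ pr_surjective] at h2
  exact h2

theorem KA_generic [Finite (PSp m F)] (hm : 2 ≤ m) {ρ : F ≃+* F} [Fintype ↥(Ef ρ)]
    (hE : m = 2 → 3 ≤ Fintype.card ↥(Ef ρ)) (hodd : Odd (orderOf ρ))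
    (hcop : (orderOf (fld m ρ)).Coprime (Nat.card (PSp m F))) : KA (fld m ρ) := by
  have hm0 : 0 < m := by omega
  have e : PSp m ↥(Ef ρ) ≃* ↥(fx (fld m ρ)) :=
    ((QuotientGroup.quotientMulEquivOfEq (ker_phi (m := m) ρ).symm).trans
      (QuotientGroup.quotientKerEquivRange (phi m ρ))).trans (MulEquiv.subgroupCongr (fx_eq hodd).symm)
  have hs : IsSimpleGroup (PSp m ↥(Ef ρ)) := S0270.result m hm hE
  have hs' : IsSimpleGroup ↥(fx (fld m ρ)) := e.symm.isSimpleGroup
  refine KA.of_simple hcop le_rfl hs' ?_ Subgroup.le_normalizer (z := pr m F (transv (v0 m hm0 F) 1)) ?_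
    (V := rt (v0 m hm0 F)) (rt_le_dc (v0_ne hm0 F)) ?_ (fun x _ h => h) ?_
  · intro hc
    apply psp_nonab hm hE
    refine ⟨⟨fun a b => e.injective ?_⟩⟩
    rw [map_mul, map_mul]
    exact hc.is_comm.comm _ _
  · rw [fld_rt, map_one]
  · rintro _ ⟨t, rfl⟩
    exact ⟨ρ t, fld_rt hm0 ρ t⟩
  · rw [fx_eq hodd]
    exact gen_rt hm0 ρ

theorem center_two {E : Type*} [Field E] [Fintype E] (hE : Fintype.card E = 2) : Subgroup.center (Sp m E) = ⊥ := by
  rcases Nat.eq_zero_or_pos m with rfl | hm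
  · rw [eq_bot_iff]
    intro A _
    rw [Subgroup.mem_bot]
    apply Subtype.ext
    ext i j
    rcases i with i | i <;> exact i.elim0
  rw [eq_bot_iff]
  intro A hA
  rw [SympCenter.mem_center_iff] at hA
  obtain ⟨a, ha⟩ := hA
  have h1 : a * a = 1 := SympCenter.sq_eq_one_of_smul_mem (m := m) hm (by rw [← ha]; exact A.2)
  have h2 : a ^ 2 = a := by rw [← hE]; exact FiniteField.pow_card a
  have h3 : a = 1 := by rw [← h2, pow_two, h1]
  rw [Subgroup.mem_bot]
  apply Subtype.ext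
  rw [ha, h3, one_smul]
  rfl

theorem KA_two [Finite (PSp 2 F)] [IsSimpleGroup (PSp 2 F)] {ρ : F ≃+* F} [Fintype ↥(Ef ρ)]
    (hE : Fintype.card ↥(Ef ρ) = 2) (hodd : Odd (orderOf ρ))
    (hcop : (orderOf (fld 2 ρ)).Coprime (Nat.card (PSp 2 F))) : KA (fld 2 ρ) := by
  classical
  have hm0 : 0 < 2 := by omega
  have hinj : Function.Injective (phi 2 ρ) := by
    rw [← MonoidHom.ker_eq_bot_iff, ker_phi, center_two hE]
  obtain ⟨e⟩ := nonempty_equiv_perm hE
  -- the derived group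
  have e1 : ↥(commutator (Sp 2 ↥(Ef ρ))) ≃* ↥(alternatingGroup (Fin 6)) := by
    have h1 : (commutator (Sp 2 ↥(Ef ρ))).map e.toMonoidHom = alternatingGroup (Fin 6) := by
      rw [← alternatingGroup.commutator_perm_eq (by simp)]
      rw [commutator_def, Subgroup.map_commutator, Subgroup.map_top_of_surjective _ e.surjective]
      rfl
    exact ((commutator (Sp 2 ↥(Ef ρ))).equivMapOfInjective e.toMonoidHom e.injective).trans
      (MulEquiv.subgroupCongr h1)
  have e2 : ↥((commutator (Sp 2 ↥(Ef ρ))).map (phi 2 ρ)) ≃* ↥(alternatingGroup (Fin 6)) :=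
    ((commutator (Sp 2 ↥(Ef ρ))).equivMapOfInjective (phi 2 ρ) hinj).symm.trans e1
  have hsA : IsSimpleGroup ↥(alternatingGroup (Fin 6)) := alternatingGroup.isSimpleGroup (by simp)
  have hs : IsSimpleGroup ↥((commutator (Sp 2 ↥(Ef ρ))).map (phi 2 ρ)) := e2.isSimpleGroup
  have hn : (phi 2 ρ).range ≤ Subgroup.normalizer ((commutator (Sp 2 ↥(Ef ρ))).map (phi 2 ρ) : Set (PSp 2 F)) := by
    rintro _ ⟨g, rfl⟩
    have key : ∀ g : Sp 2 ↥(Ef ρ), ∀ x ∈ (commutator (Sp 2 ↥(Ef ρ))).map (phi 2 ρ),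
        phi 2 ρ g * x * (phi 2 ρ g)⁻¹ ∈ (commutator (Sp 2 ↥(Ef ρ))).map (phi 2 ρ) := by
      rintro g _ ⟨c, hc, rfl⟩
      exact ⟨g * c * g⁻¹, (inferInstance : (commutator (Sp 2 ↥(Ef ρ))).Normal).conj_mem c hc g, by
        rw [map_mul, map_mul, map_inv]⟩
    rw [Subgroup.mem_normalizer_iff]
    intro x
    refine ⟨key g x, fun h => ?_⟩
    have h1 := key g⁻¹ _ h
    rw [map_inv] at h1
    have h2 : (phi 2 ρ g)⁻¹ * (phi 2 ρ g * x * (phi 2 ρ g)⁻¹) * ((phi 2 ρ g)⁻¹)⁻¹ = x := by group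
    rwa [h2] at h1
  refine KA.of_residual hcop (J := (phi 2 ρ).range) (M := (commutator (Sp 2 ↥(Ef ρ))).map (phi 2 ρ)) ?_ hs ?_ ?_
    (z := pr 2 F (transv (v0 2 hm0 F) 1)) ?_ ?_ (V := rt (v0 2 hm0 F)) (rt_le_dc (v0_ne hm0 F)) ?_ ?_ (gen_rt hm0 ρ)
  · rw [fx_eq hodd]
    rintro _ ⟨c, -, rfl⟩
    exact ⟨c, rfl⟩
  · intro hc
    have h1 : IsMulCommutative ↥(alternatingGroup (Fin 6)) := by
      refine ⟨⟨fun a b => e2.symm.injective ?_⟩⟩
      rw [map_mul, map_mul]
      exact hc.is_comm.comm _ _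
    rw [alternatingGroup.isMulCommutative_iff_card_le_three, Nat.card_eq_fintype_card, Fintype.card_fin] at h1
    omega
  · rw [fx_eq hodd]; exact hn
  · rw [fld_rt, map_one]
  · -- `J` is generated by `M` and the transvection
    have hgen : Subgroup.closure {A : Sp 2 ↥(Ef ρ) | ∃ (w : Fin 2 ⊕ Fin 2 → ↥(Ef ρ)) (c : ↥(Ef ρ)),
      (A : Matrix (Fin 2 ⊕ Fin 2) (Fin 2 ⊕ Fin 2) ↥(Ef ρ)) = Cfsg.sympTransvection 2 w c} = ⊤ :=
      S0765.result (F := ↥(Ef ρ)) 2
    set H := (commutator (Sp 2 ↥(Ef ρ))).map (phi 2 ρ) ⊔ (fx (fld 2 ρ) ⊓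
      Subgroup.centralizer ({pr 2 F (transv (v0 2 hm0 F) 1)} : Set (PSp 2 F))) with hH
    have h1 : (⊤ : Subgroup (Sp 2 ↥(Ef ρ))) ≤ H.comap (phi 2 ρ) := by
      rw [← hgen, Subgroup.closure_le]
      rintro A ⟨w, c, hA⟩
      have hA' : A = transv w c := Subtype.ext hA
      show phi 2 ρ A ∈ H
      rw [hA']
      have hc2 : c ^ 2 = c := by rw [← hE]; exact FiniteField.pow_card c
      have hc : c = 0 ∨ c = 1 := by
        have h5 : c * (c - 1) = 0 := by linear_combination hc2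
        rcases mul_eq_zero.1 h5 with h6 | h6
        · exact Or.inl h6
        · exact Or.inr (sub_eq_zero.1 h6)
      rcases hc with hc | hc
      · rw [hc, transv_zero, map_one]
        exact H.one_mem
      rw [hc]
      by_cases hw : w = 0
      · have h2 : (transv w 1 : Sp 2 ↥(Ef ρ)) = 1 := by
          rw [hw, show (0 : Fin 2 ⊕ Fin 2 → ↥(Ef ρ)) = (0 : ↥(Ef ρ)) • (0 : Fin 2 ⊕ Fin 2 → ↥(Ef ρ)) by rw [zero_smul],
            transv_smul, zero_pow two_ne_zero, zero_mul, transv_zero]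
        rw [h2, map_one]
        exact H.one_mem
      obtain ⟨B, -, hB⟩ := exists_transvGroup_mulVec_eq (v0_ne hm0 ↥(Ef ρ)) hw
      have h2 : (transv w 1 : Sp 2 ↥(Ef ρ)) = ⁅B, transv (v0 2 hm0 ↥(Ef ρ)) 1⁆ * transv (v0 2 hm0 ↥(Ef ρ)) 1 := by
        rw [commutatorElement_def, inv_mul_cancel_right, conj_transv, hB]
      rw [h2, map_mul]
      refine H.mul_mem (Subgroup.mem_sup_left ⟨_, ?_, rfl⟩) (Subgroup.mem_sup_right ⟨?_, ?_⟩)
      · exact Subgroup.commutator_mem_commutator (Subgroup.mem_top _) (Subgroup.mem_top _)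
      · rw [fx_eq hodd]; exact ⟨_, rfl⟩
      · rw [phi_rt]
        show _ ∈ Subgroup.centralizer _
        rw [Subgroup.mem_centralizer_singleton_iff]
    rintro _ ⟨A, rfl⟩
    exact h1 (Subgroup.mem_top A)
  · rintro _ ⟨t, rfl⟩
    exact ⟨ρ t, fld_rt hm0 ρ t⟩
  · intro x _ h
    rw [← fx_eq hodd]
    exact h

end Main

/-- **`CG` for the symplectic groups** -/
theorem cg_psp {F : Type u} [Field F] [Fintype F] {m : ℕ} (hm : 2 ≤ m) (h3 : m = 2 → 3 ≤ Fintype.card F)
    [IsSimpleGroup (Cfsg.PSp m F)] : CG (Cfsg.PSp m F) := by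
  have hfin : Finite (PSp m F) := inferInstanceAs (Finite (Sp m F ⧸ Subgroup.center (Sp m F)))
  obtain ⟨ρ₀, hord, -⟩ := exists_ringAut F
  have h2 : 2 ∣ Nat.card (PSp m F) := two_dvd_card (by omega)
  refine CG.of_copIn (PSP.copIn hm h3 (psp_nonab hm h3) h2 ρ₀ hord) ?_
  rintro α hα hp hcop
  obtain ⟨k, rfl⟩ := hα
  have h4 : fld m ρ₀ ^ k = fld m (ρ₀ ^ k) := (map_zpow (fld m) ρ₀ k).symm
  simp only [h4] at hp hcop ⊢
  left
  set ρ := ρ₀ ^ k with hρ
  have hodd : Odd (orderOf ρ) := by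
    rw [← Nat.not_even_iff_odd, even_iff_two_dvd]
    intro h5
    have h6 := Nat.dvd_gcd (h5.trans (PSP.orderOf_dvd (m := m) (by omega) ρ)) h2
    rw [Nat.Coprime.gcd_eq_one hcop] at h6
    omega
  have hfE : Fintype ↥(Ef ρ) := Fintype.ofFinite _
  by_cases hE : m = 2 → 3 ≤ Fintype.card ↥(Ef ρ)
  · exact KA_generic hm hE hodd hcop
  · push Not at hE
    obtain ⟨rfl, h7⟩ := hE
    have h8 : 1 < Fintype.card ↥(Ef ρ) := Fintype.one_lt_card
    exact KA_two (by omega) hodd hcop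

end Cfsg.Agent.H686.CgPsp

private theorem dce_91ed5d9f433d : _root_.True := by
  try have : _root_.True := by simp only [_root_.Cfsg.Agent.H686.CgPsp.v0.eq_1]
  exact _root_.True.intro
end
end
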