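import Mathlib
import Cfsg.Agent.H60.MultA
import Cfsg.Agent.Prune
set_option linter.all false
prune_inst 0x7f00000000000000000000000000000000000000000000000000000000000000000000000000000000000000000000000000000000000000000000000000000000000000000000000000000000000000003fffffffffffffffffffffffffffbeffbdffffffff
open scoped Cfsg.Agent.FastGrp

/-!
# Perfect central extensions as quotients of a group with few perfect central extensions

`exists_surj`: `f : N → Q`, `g : S → Q` surjective with central kernels, `N`, `S` perfect and finite.  If for every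
prime divisor `r` of `|ker f|` the group `S` has no perfect central extension with kernel of order `r`, then `g`
lifts to a surjection `S → N`.
-/

set_option autoImplicit false

namespace Cfsg.Agent.H686.SLCover

open Subgroup

universe u v w

theorem comm_surj {Γ : Type u} {Y : Type v} [Group Γ] [Group Y] (k : Γ →* Y) (hk : Function.Surjective k)
    (hY : commutator Y = ⊤) : Function.Surjective (k.comp (commutator Γ).subtype) := by
  intro y
  have h1 : (commutator Γ).map k = ⊤ := by
    rw [commutator_def, Subgroup.map_commutator, Subgroup.map_top_of_surjective k hk, ← commutator_def, hY]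
  have : y ∈ (commutator Γ).map k := by rw [h1]; trivial
  obtain ⟨d, hd, rfl⟩ := this
  exact ⟨⟨d, hd⟩, rfl⟩

theorem exists_surj {N : Type u} [Group N] [Finite N] {S : Type v} [Group S] [Finite S] {Q : Type w} [Group Q]
    (hN : commutator N = ⊤) (hS : commutator S = ⊤) (f : N →* Q) (hf : Function.Surjective f)
    (hfc : f.ker ≤ center N) (g : S →* Q) (hg : Function.Surjective g) (hgc : g.ker ≤ center S)
    (h : ∀ r : ℕ, r.Prime → r ∣ Nat.card f.ker → H67.NoPCov r S) :
    ∃ η : S →* N, Function.Surjective η ∧ f.comp η = g := by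
  classical
  have hQ : commutator Q = ⊤ := KFacts.MulDef.commutator_top_of_surj f hf hN
  let Γ : Subgroup (N × S) := (f.comp (MonoidHom.fst N S)).eqLocus (g.comp (MonoidHom.snd N S))
  have hΓ : ∀ z : N × S, z ∈ Γ ↔ f z.1 = g z.2 := fun z => Iff.rfl
  let p1 : Γ →* N := (MonoidHom.fst N S).comp Γ.subtype
  let p2 : Γ →* S := (MonoidHom.snd N S).comp Γ.subtype
  have hp1 : Function.Surjective p1 := by
    intro x
    obtain ⟨y, hy⟩ := hg (f x)
    exact ⟨⟨(x, y), hy.symm⟩, rfl⟩
  have hp2 : Function.Surjective p2 := by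
    intro y
    obtain ⟨x, hx⟩ := hf (g y)
    exact ⟨⟨(x, y), hx⟩, rfl⟩
  let p : Γ →* Q := f.comp p1
  have hp : Function.Surjective p := hf.comp hp1
  have hpc : p.ker ≤ center Γ := by
    rintro ⟨⟨x, y⟩, hxy⟩ hz
    have h1 : f x = 1 := hz
    have h2 : g y = 1 := by
      have : f x = g y := hxy
      rw [← this, h1]
    rw [mem_center_iff]
    rintro ⟨⟨x', y'⟩, hxy'⟩
    apply Subtype.ext
    exact Prod.ext (mem_center_iff.1 (hfc h1) x') (mem_center_iff.1 (hgc h2) y')
  let D : Subgroup Γ := commutator Γ
  have hD : commutator D = ⊤ := by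
    have h1 := H487.commutator_eq_map_of_central hpc (φ := D.subtype) (comm_surj p hp hQ)
    rw [eq_top_iff]
    intro x _
    have h2 : (x : Γ) ∈ commutator Γ := x.2
    rw [h1] at h2
    obtain ⟨y, hy, hyx⟩ := h2
    have : y = x := Subtype.ext hyx
    rwa [← this]
  have hs1 : Function.Surjective (p1.comp D.subtype) := comm_surj p1 hp1 hN
  have hs2 : Function.Surjective (p2.comp D.subtype) := comm_surj p2 hp2 hS
  have hval : ∀ d : D, f (p1 (d : Γ)) = g (p2 (d : Γ)) := fun d => (d : Γ).2
  have hkc : (p2.comp D.subtype).ker ≤ center D := by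
    intro d hd
    have h1 : p2 (d : Γ) = 1 := hd
    have h2 : (d : Γ) ∈ p.ker := by
      show f (p1 (d : Γ)) = 1
      rw [hval, h1, map_one]
    rw [mem_center_iff]
    intro d'
    exact Subtype.ext (mem_center_iff.1 (hpc h2) (d' : Γ))
  have hker1 : Nat.card (p2.comp D.subtype).ker ∣ Nat.card f.ker := by
    let k : (p2.comp D.subtype).ker →* f.ker :=
      ((p1.comp D.subtype).comp (p2.comp D.subtype).ker.subtype).codRestrict f.ker (by
        intro d
        show f (p1 ((d : D) : Γ)) = 1
        have h1 : p2 ((d : D) : Γ) = 1 := d.2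
        rw [hval, h1, map_one])
    refine Subgroup.card_dvd_of_injective k ?_
    intro a b hab
    have h1 : p1 ((a : D) : Γ) = p1 ((b : D) : Γ) := congrArg Subtype.val hab
    have h2 : p2 ((a : D) : Γ) = p2 ((b : D) : Γ) := (a.2 : p2 ((a : D) : Γ) = 1).trans (b.2 : p2 ((b : D) : Γ) = 1).symm
    exact Subtype.ext (Subtype.ext (Subtype.ext (Prod.ext h1 h2)))
  have hone : Nat.card (p2.comp D.subtype).ker = 1 := by
    by_contra hne
    obtain ⟨r, hr, hdvd⟩ := Nat.exists_prime_and_dvd hne
    exact (h r hr (hdvd.trans hker1)).not_dvd_card_ker hr hD hs2 hkc hdvd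
  have hinj : Function.Injective (p2.comp D.subtype) := by
    rw [← MonoidHom.ker_eq_bot_iff]
    exact Subgroup.eq_bot_of_card_eq _ hone
  let e : D ≃* S := MulEquiv.ofBijective (p2.comp D.subtype) ⟨hinj, hs2⟩
  refine ⟨(p1.comp D.subtype).comp e.symm.toMonoidHom, hs1.comp e.symm.surjective, ?_⟩
  ext y
  obtain ⟨d, rfl⟩ := e.surjective y
  show f (p1 ((e.symm (e d) : D) : Γ)) = g (e d)
  rw [e.symm_apply_apply, hval]
  rfl

end Cfsg.Agent.H686.SLCover
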